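import Cfsg.Agent.Lib.Helper11.Y532c2.D0
import Cfsg.Agent.Lib.Helper11.Words

set_option autoImplicit false
set_option maxRecDepth 100000

namespace Cfsg.Agent.Lib.Helper11.Y532c2

noncomputable def fc1_0 (i : ℕ) : ℕ := (Bool.rec (Bool.rec (Bool.rec (fc0_0 i) (Bool.rec (fc0_1 i) (fc0_2 i) (Nat.ble 32 i)) (Nat.ble 16 i)) (Bool.rec (Bool.rec (fc0_3 i) (fc0_4 i) (Nat.ble 64 i)) (Bool.rec (fc0_5 i) (fc0_6 i) (Nat.ble 96 i)) (Nat.ble 80 i)) (Nat.ble 48 i)) (Bool.rec (Bool.rec (Bool.rec (fc0_7 i) (fc0_8 i) (Nat.ble 128 i)) (Bool.rec (fc0_9 i) (fc0_10 i) (Nat.ble 160 i)) (Nat.ble 144 i)) (Bool.rec (Bool.rec (fc0_11 i) (fc0_12 i) (Nat.ble 192 i)) (Bool.rec (fc0_13 i) (fc0_14 i) (Nat.ble 224 i)) (Nat.ble 208 i)) (Nat.ble 176 i))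 (Nat.ble 112 i))
noncomputable def fc (i : ℕ) : ℕ := fc1_0 i
noncomputable def sc1_0 (i : ℕ) : ℕ := (Bool.rec (Bool.rec (Bool.rec (sc0_0 i) (Bool.rec (sc0_1 i) (sc0_2 i) (Nat.ble 32 i)) (Nat.ble 16 i)) (Bool.rec (Bool.rec (sc0_3 i) (sc0_4 i) (Nat.ble 64 i)) (Bool.rec (sc0_5 i) (sc0_6 i) (Nat.ble 96 i)) (Nat.ble 80 i)) (Nat.ble 48 i)) (Bool.rec (Bool.rec (Bool.rec (sc0_7 i) (sc0_8 i) (Nat.ble 128 i)) (Bool.rec (sc0_9 i) (sc0_10 i) (Nat.ble 160 i)) (Nat.ble 144 i)) (Bool.rec (Bool.rec (sc0_11 i) (sc0_12 i) (Nat.ble 192 i)) (Bool.rec (sc0_13 i) (sc0_14 i) (Nat.ble 224 i)) (Nat.ble 208 i)) (Nat.ble 176 i)) (Nat.ble 112 i))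
noncomputable def sc (i : ℕ) : ℕ := sc1_0 i
noncomputable def nc (i : ℕ) : ℕ := nc0_0 i
noncomputable def cc1_0 (i : ℕ) : ℕ := (Bool.rec (Bool.rec (cc0_0 i) (Bool.rec (cc0_1 i) (cc0_2 i) (Nat.ble 32 i)) (Nat.ble 16 i)) (Bool.rec (Bool.rec (cc0_3 i) (cc0_4 i) (Nat.ble 64 i)) (Bool.rec (cc0_5 i) (cc0_6 i) (Nat.ble 96 i)) (Nat.ble 80 i)) (Nat.ble 48 i))
noncomputable def cc (i : ℕ) : ℕ := cc1_0 i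

noncomputable def INV : ℕ := 9043225708576
def isH (l : ℕ) : Bool := decide (l ∈ [1, 2, 3, 4, 5, 6, 7])
def gens : List ℕ := [1, 2, 3, 4, 5, 6, 7, 8]
def rt : RT := (.node 19 (.node 8 (.node 4 (.node 2 (.node 1 (.leaf 7 0 [7, 7]) (.leaf 8 0 [8, 8])) (.node 3 (.leaf 5 0 [5, 5]) (.leaf 1 0 [1, 1]))) (.node 6 (.node 5 (.leaf 2 0 [2, 2]) (.leaf 47 0 [5, 7, 5, 7])) (.node 7 (.leaf 55 0 [6, 7, 6, 7]) (.leaf 23 0 [2, 7, 2, 7])))) (.node 14 (.node 11 (.node 10 (.node 9 (.leaf 4 0 [4, 4]) (.leaf 14 0 [1, 6, 1, 6])) (.leaf 21 0 [2, 5, 2, 5])) (.node 13 (.node 12 (.leaf 6 0 [6, 6]) (.leaf 3 0 [3, 3])) (.leaf 29 0 [3, 5, 3, 5]))) (.node 17 (.node 16 (.node 15 (.leaf 31 0 [3, 7, 3, 7]) (.leaf 48 1 [8, 5, 8, 5])) (.leaf 37 0 [4, 5,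 4, 5])) (.node 18 (.leaf 22 0 [2, 6, 2, 6]) (.leaf 39 0 [4, 7, 4, 7]))))) (.node 33 (.node 26 (.node 23 (.node 21 (.node 20 (.leaf 30 0 [3, 6, 3, 6]) (.leaf 11 1 [3, 1, 3, 1])) (.node 22 (.leaf 56 1 [8, 6, 8, 6]) (.leaf 38 0 [4, 6, 4, 6]))) (.node 25 (.node 24 (.leaf 48 0 [5, 8, 5, 8]) (.leaf 16 0 [1, 8, 1, 8])) (.leaf 12 1 [4, 1, 4, 1]))) (.node 30 (.node 28 (.node 27 (.leaf 56 0 [6, 8, 6, 8]) (.leaf 47 1 [7, 5, 7, 5])) (.node 29 (.leaf 24 0 [2, 8, 2, 8]) (.leaf 16 1 [8, 1, 8, 1]))) (.node 32 (.node 31 (.leaf 13 1 [5, 1, 5, 1, 5, 1]) (.leaf 32 0 [3, 8, 3, 8])) (.leaf 40 0 [4, 8, 4, 8])))) (.node 43 (.node 38 (.node 36 (.node 35 (.node 34 (.leaf 55 1 [7, 6, 7, 6]) (.leaf 15 1 [7, 1, 7, 1, 7, 1])) (.leaf 13 0 [1, 5, 1,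 5, 1, 5])) (.node 37 (.leaf 14 1 [6, 1, 6, 1]) (.leaf 46 0 [5, 6, 5, 6, 5, 6]))) (.node 41 (.node 40 (.node 39 (.leaf 15 0 [1, 7, 1, 7, 1, 7]) (.leaf 10 0 [1, 2, 1, 2, 1, 2])) (.leaf 64 0 [7, 8, 7, 8, 7, 8])) (.node 42 (.leaf 64 1 [8, 7, 8, 7, 8, 7]) (.leaf 46 1 [6, 5, 6, 5, 6, 5])))) (.node 50 (.node 47 (.node 45 (.node 44 (.leaf 20 1 [4, 2, 4, 2]) (.leaf 24 1 [8, 2, 8, 2])) (.node 46 (.leaf 23 1 [7, 2, 7, 2]) (.leaf 10 1 [2, 1, 2, 1, 2, 1]))) (.node 49 (.node 48 (.leaf 22 1 [6, 2, 6, 2]) (.leaf 0 0 [])) (.leaf 19 0 [2, 3, 2, 3, 2, 3]))) (.node 55 (.node 53 (.node 52 (.node 51 (.leaf 11 0 [1, 3, 1, 3]) (.leaf 21 1 [5, 2, 5, 2])) (.leaf 31 1 [7, 3, 7, 3])) (.node 54 (.leaf 32 1 [8, 3, 8, 3]) (.leaf 30 1 [6, 3, 6, 3])))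 (.node 59 (.node 57 (.node 56 (.leaf 12 0 [1, 4, 1, 4]) (.leaf 20 0 [2, 4, 2, 4])) (.node 58 (.leaf 28 0 [3, 4, 3, 4, 3, 4]) (.leaf 39 1 [7, 4, 7, 4]))) (.node 62 (.node 61 (.node 60 (.leaf 19 1 [3, 2, 3, 2, 3, 2]) (.leaf 38 1 [6, 4, 6, 4])) (.leaf 40 1 [8, 4, 8, 4])) (.node 64 (.node 63 (.leaf 29 1 [5, 3, 5, 3]) (.leaf 37 1 [5, 4, 5, 4])) (.node 65 (.leaf 28 1 [4, 3, 4, 3, 4, 3]) (.node 67 (.node 66 (.leaf 73 4 [5, 6, 1, 7, 8, 1, 2, 3, 1, 5, 6, 1, 7, 8, 1, 2, 3, 1, 5, 6, 1, 7, 8, 1, 2, 3, 1, 5, 6, 1, 7, 8, 1, 2, 3, 1, 5, 6, 1, 7, 8, 1, 2, 3, 1, 5, 6, 1, 7, 8, 1, 2, 3, 1, 5, 6, 1, 7, 8, 1, 2, 3, 1, 5, 6, 1, 7, 8, 1, 2, 3, 1, 5, 6, 1, 7, 8, 1, 2, 3, 1, 5, 6, 1, 7, 8, 1, 2, 3, 1]) (.leaf 73 7 [7, 8, 1, 2, 3, 1, 5, 6, 1,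 7, 8, 1, 2, 3, 1, 5, 6, 1, 7, 8, 1, 2, 3, 1, 5, 6, 1, 7, 8, 1, 2, 3, 1, 5, 6, 1, 7, 8, 1, 2, 3, 1, 5, 6, 1, 7, 8, 1, 2, 3, 1, 5, 6, 1, 7, 8, 1, 2, 3, 1, 5, 6, 1, 7, 8, 1, 2, 3, 1, 5, 6, 1, 7, 8, 1, 2, 3, 1, 5, 6, 1, 7, 8, 1, 2, 3, 1, 5, 6, 1])) (.node 69 (.node 68 (.leaf 73 6 [1, 7, 8, 1, 2, 3, 1, 5, 6, 1, 7, 8, 1, 2, 3, 1, 5, 6, 1, 7, 8, 1, 2, 3, 1, 5, 6, 1, 7, 8, 1, 2, 3, 1, 5, 6, 1, 7, 8, 1, 2, 3, 1, 5, 6, 1, 7, 8, 1, 2, 3, 1, 5, 6, 1, 7, 8, 1, 2, 3, 1, 5, 6, 1, 7, 8, 1, 2, 3, 1, 5, 6, 1, 7, 8, 1, 2, 3, 1, 5, 6, 1, 7, 8, 1, 2, 3, 1, 5, 6]) (.leaf 73 3 [1, 5, 6, 1, 7, 8, 1, 2, 3, 1, 5, 6, 1, 7, 8, 1, 2, 3, 1, 5, 6, 1, 7, 8, 1, 2, 3, 1, 5, 6, 1, 7, 8, 1, 2, 3, 1, 5, 6, 1, 7, 8, 1, 2, 3, 1, 5, 6, 1, 7, 8, 1, 2, 3, 1, 5,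 6, 1, 7, 8, 1, 2, 3, 1, 5, 6, 1, 7, 8, 1, 2, 3, 1, 5, 6, 1, 7, 8, 1, 2, 3, 1, 5, 6, 1, 7, 8, 1, 2, 3])) (.leaf 73 8 [8, 1, 2, 3, 1, 5, 6, 1, 7, 8, 1, 2, 3, 1, 5, 6, 1, 7, 8, 1, 2, 3, 1, 5, 6, 1, 7, 8, 1, 2, 3, 1, 5, 6, 1, 7, 8, 1, 2, 3, 1, 5, 6, 1, 7, 8, 1, 2, 3, 1, 5, 6, 1, 7, 8, 1, 2, 3, 1, 5, 6, 1, 7, 8, 1, 2, 3, 1, 5, 6, 1, 7, 8, 1, 2, 3, 1, 5, 6, 1, 7, 8, 1, 2, 3, 1, 5, 6, 1, 7]))))))))))))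


end Cfsg.Agent.Lib.Helper11.Y532c2
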